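import Mathlib
import Cfsg.Agent.Lib.Helper1.BG11.ElevenSevenA

set_option autoImplicit false

namespace Cfsg.Agent.Lib.Helper1.BG16

open Cfsg.Agent.Lib Cfsg.Agent.Lib.Helper1.BG10 Cfsg.Agent.Lib.Helper1.BG12
  Cfsg.Agent.Lib.Helper1.BG11

universe u

variable {G : Type u} [Group G] [Finite G]

theorem u_inf_sigmaCore (M K U : Subgroup G) (hKU : Cfsg.IsSigmaDecomposition M K U) :
    U ⊓ Cfsg.sigmaCore M = ⊥ := by
  rw [eq_bot_iff, ← hKU.compl.2.2.1]
  exact inf_le_inf_left _ le_sup_right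

theorem u_sylow_abelian (hG : Cfsg.IsMinSimpleOddOrder G) (M : Subgroup G) (hM : IsCoatom M)
    (K U : Subgroup G) (hKU : Cfsg.IsSigmaDecomposition M K U)
    (h : ∀ N : Subgroup G, N ≤ M → Group.IsNilpotent N →
      (∀ p : ℕ, p.Prime → p ∣ Nat.card N → p ∉ Cfsg.sigma M) → IsMulCommutative N) :
    ∀ (p : ℕ), p.Prime → ∀ P : Sylow p U,
      IsMulCommutative (P : Subgroup U) ∧ Cfsg.PRankLE p 2 (P : Subgroup U) := by
  intro p hp P
  haveI : Fact p.Prime := ⟨hp⟩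
  have hUM : U ≤ M := hKU.compl.1
  obtain ⟨N, hN⟩ : ∃ N : Subgroup G, N = (P : Subgroup U).map U.subtype := ⟨_, rfl⟩
  have hNU : N ≤ U := hN ▸ Subgroup.map_subtype_le _
  have hNM : N ≤ M := hNU.trans hUM
  have hNp : IsPGroup p N := hN ▸ P.isPGroup'.map _
  have hσ : p ∈ Cfsg.sigma M → N = ⊥ := by
    intro hpσ
    have h1 := pgroup_le_sigmaCore hG M hM p hpσ N hNM hNp
    have h2 : N ≤ U ⊓ Cfsg.sigmaCore M := le_inf hNU h1
    rwa [u_inf_sigmaCore M K U hKU, le_bot_iff] at h2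
  have hinj : Function.Injective (U.subtype.comp (P : Subgroup U).subtype) :=
    U.subtype_injective.comp (P : Subgroup U).subtype_injective
  constructor
  · have hnil : Group.IsNilpotent N := hNp.isNilpotent
    have hc := h N hNM hnil (by
      intro r hr hd hrσ
      have hrp : r = p := by
        obtain ⟨k, hk⟩ := IsPGroup.iff_card.mp hNp
        rw [hk] at hd
        exact (Nat.prime_dvd_prime_iff_eq hr hp).mp (hr.dvd_of_dvd_pow hd)
      rw [hrp] at hrσ
      rw [hσ hrσ, Subgroup.card_bot] at hd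
      exact hr.one_lt.ne' (Nat.dvd_one.mp hd))
    refine ⟨⟨fun a b => ?_⟩⟩
    have h1 : (⟨(a : U), hN ▸ ⟨(a : U), a.2, rfl⟩⟩ : N) * ⟨(b : U), hN ▸ ⟨(b : U), b.2, rfl⟩⟩ =
        ⟨(b : U), hN ▸ ⟨(b : U), b.2, rfl⟩⟩ * ⟨(a : U), hN ▸ ⟨(a : U), a.2, rfl⟩⟩ :=
      hc.is_comm.comm _ _
    have h2 := congrArg Subtype.val h1
    apply Subtype.ext
    apply Subtype.ext
    simpa using h2
  · intro A hAc hAe
    obtain ⟨A', hA'⟩ : ∃ A' : Subgroup G,
      A' = A.map (U.subtype.comp (P : Subgroup U).subtype) := ⟨_, rfl⟩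
    have hcard : Nat.card A' = Nat.card A := by
      rw [hA']
      exact Subgroup.card_map_of_injective hinj
    have hA'N : A' ≤ N := by
      rw [hA', hN]
      rintro _ ⟨a, _, rfl⟩
      exact ⟨(a : U), a.2, rfl⟩
    have hA'e : Cfsg.IsElementaryAbelian p A' := by
      rw [hA']
      refine ⟨⟨⟨?_⟩⟩, ?_⟩
      · rintro ⟨_, a, ha, rfl⟩ ⟨_, b, hb, rfl⟩
        apply Subtype.ext
        have := hAc.is_comm.comm ⟨a, ha⟩ ⟨b, hb⟩
        have h2 := congrArg (fun t : A => (U.subtype.comp (P : Subgroup U).subtype) (t : P)) this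
        simpa using h2
      · rintro _ ⟨a, ha, rfl⟩
        rw [← map_pow, hAe a ha, map_one]
    rw [← hcard]
    by_cases hpσ : p ∈ Cfsg.sigma M
    · have h1 : A' = ⊥ := by
        rw [← le_bot_iff, ← hσ hpσ]
        exact hA'N
      rw [h1, Subgroup.card_bot]
      exact Nat.one_le_pow _ _ hp.pos
    · exact pRankLE_card_le (pRankLE_of_not_sigma hG M hM p hpσ) (hA'N.trans hNM) hA'e

end Cfsg.Agent.Lib.Helper1.BG16
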